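import Groth.Agent.SyntLib.SmoothHom
import Groth.Agent.SyntLib.Koszul
import Groth.Agent.KoszulLib.CompLCI

/-!
Etale morphisms are syntomic and Koszul.
-/

universe u

open CategoryTheory AlgebraicGeometry

namespace Groth.Agent.LciSp

theorem synMor_of_etale {X Y : Scheme.{u}} (f : X ⟶ Y) [Etale f] : SyntLib.SynMor f := by
  have : Smooth (f ≫ 𝟙 Y) := by rw [Category.comp_id]; infer_instance
  exact SyntLib.synMor_of_smooth_of_smooth f (𝟙 Y)

theorem isKoszulAt_of_etale {X Y : Scheme.{u}} (f : X ⟶ Y) [Etale f] (x : X) : Synt.IsKoszulAt f x :=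
  SyntLib.isKoszulAt_of_synMor f (synMor_of_etale f) x

end Groth.Agent.LciSp
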